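import Cfsg.Agent.H353.GT.Ker5
import Cfsg.Agent.H904.GT.Kap

/-!
# S5211: the Weyl element of the long root parabolic and `StLb` for `p ≥ 5` (task LB-5)

The frame is helper904's `LbH`; the kernel is `ker5`.
-/

set_option autoImplicit false

namespace Cfsg.Agent.H353.GT

open Cfsg Cfsg.Agent.H779.G2 Cfsg.Agent.H756.PU Cfsg.Agent.H103.GT
open Cfsg.Agent.H732.PU (Triv Fx fx_step)
open Cfsg.Agent.H904.GT (LbH)

universe u

variable {K : Type u} [Field K]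

/-- `T` acts on `Q_b` as the torus element `(s, t)` -/
structure TorQ (T : MulAut (Qb K)) (s t : K) : Prop where
  a : ∀ g : Qb K, ((T g : Qb K) : GU K).a = s * (g : GU K).a
  c : ∀ g : Qb K, ((T g : Qb K) : GU K).c = s * t * (g : GU K).c
  d : ∀ g : Qb K, ((T g : Qb K) : GU K).d = s ^ 2 * t * (g : GU K).d
  e : ∀ g : Qb K, ((T g : Qb K) : GU K).e = s ^ 3 * t * (g : GU K).e
  f : ∀ g : Qb K, ((T g : Qb K) : GU K).f = s ^ 3 * t ^ 2 * (g : GU K).f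

/-- restriction of torus elements to `Q_b` -/
theorem exists_torQ {s t : K} (hs : s ≠ 0) (ht : t ≠ 0) :
    ∃ (α : MulAut (GU K)) (T : MulAut (Qb K)), IsTor α s t (RingEquiv.refl K) ∧ IsR α T ∧ TorQ T s t := by
  obtain ⟨α, hα⟩ := exists_tor (K := K) (RingEquiv.refl K) hs ht
  have hm : ∀ x : GU K, α x ∈ Qb K ↔ x ∈ Qb K := by
    intro x
    show (α x).b = 0 ↔ x.b = 0
    rw [hα.b]
    simp [ht]
  refine ⟨α, { toFun := fun e => ⟨α e, (hm _).2 e.2⟩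
               invFun := fun e => ⟨α.symm e, (hm _).1 (by rw [MulEquiv.apply_symm_apply]; exact e.2)⟩
               left_inv := fun e => Subtype.ext (α.symm_apply_apply _)
               right_inv := fun e => Subtype.ext (α.apply_symm_apply _)
               map_mul' := fun x y => Subtype.ext (map_mul α _ _) }, hα, fun e => rfl, ?_⟩
  exact ⟨fun g => hα.a g, fun g => hα.c g, fun g => hα.d g, fun g => hα.e g, fun g => hα.f g⟩

section coords

variable (y x : Qb K)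

theorem cb_a : ((MulAut.conj y x : Qb K) : GU K).a = (x : GU K).a := cj_a _ _

theorem cb_c : ((MulAut.conj y x : Qb K) : GU K).c = (x : GU K).c := by
  have h1 : (y : GU K).b = 0 := y.2
  have h2 : (x : GU K).b = 0 := x.2
  rw [MulAut.conj_apply, Subgroup.coe_mul, Subgroup.coe_mul, Subgroup.coe_inv, cj_c, h1, h2]
  ring

theorem cb_d : ((MulAut.conj y x : Qb K) : GU K).d =
    (x : GU K).d - 2 * (y : GU K).a * (x : GU K).c + 2 * (y : GU K).c * (x : GU K).a := by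
  have h1 : (y : GU K).b = 0 := y.2
  have h2 : (x : GU K).b = 0 := x.2
  rw [MulAut.conj_apply, Subgroup.coe_mul, Subgroup.coe_mul, Subgroup.coe_inv, cj_d, h1, h2]
  ring

variable {y x}

theorem cb_e (ha : (y : GU K).a = 0) (hc : (y : GU K).c = 0) : ((MulAut.conj y x : Qb K) : GU K).e =
    (x : GU K).e + 3 * (y : GU K).d * (x : GU K).a := by
  have h1 : (y : GU K).b = 0 := y.2
  have h2 : (x : GU K).b = 0 := x.2
  rw [MulAut.conj_apply, Subgroup.coe_mul, Subgroup.coe_mul, Subgroup.coe_inv, cj_e, h1, h2, ha, hc]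
  ring

theorem cb_f (ha : (y : GU K).a = 0) (hc : (y : GU K).c = 0) : ((MulAut.conj y x : Qb K) : GU K).f =
    (x : GU K).f + 3 * (y : GU K).d * (x : GU K).c := by
  have h1 : (y : GU K).b = 0 := y.2
  have h2 : (x : GU K).b = 0 := x.2
  rw [MulAut.conj_apply, Subgroup.coe_mul, Subgroup.coe_mul, Subgroup.coe_inv, cj_f, h1, h2, ha, hc]
  ring

end coords

/-- the decomposition `x = x1(a) x3(c) z`, `z ∈ Z₃` -/
theorem dec_Qb (x : Qb K) : ∃ z : Qb K, (z : GU K) ∈ Z3 K ∧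
    x = (⟨x1 (x : GU K).a, x1_mem _⟩ : Qb K) * (⟨x3 (x : GU K).c, Z4_le_Qb (x3_mem _)⟩ : Qb K) * z := by
  have hb : (x : GU K).b = 0 := x.2
  refine ⟨⟨x4 (x : GU K).d * x5 (x : GU K).e * x6 (x : GU K).f, ?_⟩, ?_, ?_⟩
  · exact (Qb K).mul_mem ((Qb K).mul_mem (Z3_le_Qb (x4_mem _)) (Z2_le_Qb (x5_mem _))) (Z1_le_Qb (x6_mem _))
  · exact (Z3 K).mul_mem ((Z3 K).mul_mem (x4_mem _) (Z2_le_Z3 (x5_mem _))) (Z1_le_Z3 (x6_mem _))
  · apply Subtype.ext
    have h1 := decomp (x : GU K)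
    have h2 : x2 (x : GU K).b = (1 : GU K) := by rw [hb]; rfl
    rw [h2, mul_one] at h1
    rw [Subgroup.coe_mul, Subgroup.coe_mul]
    show (x : GU K) = x1 (x : GU K).a * x3 (x : GU K).c * (x4 (x : GU K).d * x5 (x : GU K).e * x6 (x : GU K).f)
    conv_lhs => rw [h1]
    simp only [mul_assoc]

section main
variable (h2 : (2 : K) ≠ 0) (h3 : (3 : K) ≠ 0)
include h2 h3

/-- first normalization: `k` can be made trivial on the coordinate `d` -/
theorem step1 {k : MulAut (Qb K)} (hk : TrivAC k)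
    (hT : ∀ s t : K, s ≠ 0 → t ≠ 0 → ∀ T : MulAut (Qb K), TorQ T s t → ∃ y : Qb K, k * T = MulAut.conj y * T * k) :
    ∃ y0 : Qb K, ∀ x : Qb K, (((MulAut.conj y0 * k) x : Qb K) : GU K).d = (x : GU K).d := by
  -- the homomorphism `δ`
  have hmul : ∀ x y : Qb K, ((k (x * y) : Qb K) : GU K).d - ((x * y : Qb K) : GU K).d =
      (((k x : Qb K) : GU K).d - (x : GU K).d) + (((k y : Qb K) : GU K).d - (y : GU K).d) := by
    intro x y
    have hb : (x : GU K).b = 0 := x.2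
    have hb' : ((k x : Qb K) : GU K).b = 0 := (k x).2
    rw [map_mul, Subgroup.coe_mul, Subgroup.coe_mul, GU.mul_d, GU.mul_d, (hk x).2, (hk y).1, hb, hb']
    ring
  obtain ⟨-, T1, -, -, hT1⟩ := exists_torQ (K := K) one_ne_zero h2
  obtain ⟨-, T2, -, -, hT2⟩ := exists_torQ (K := K) h2 (inv_ne_zero h2)
  obtain ⟨u, hu⟩ := hT _ _ one_ne_zero h2 T1 hT1
  obtain ⟨v, hv⟩ := hT _ _ h2 (inv_ne_zero h2) T2 hT2
  have hd1 : ∀ a : K, ((k ⟨x1 a, x1_mem a⟩ : Qb K) : GU K).d = -2 * (u : GU K).c * a := by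
    intro a
    have e1 : T1 ⟨x1 a, x1_mem a⟩ = ⟨x1 a, x1_mem a⟩ := by
      have hb : ((T1 ⟨x1 a, x1_mem a⟩ : Qb K) : GU K).b = 0 := (T1 _).2
      apply Subtype.ext
      ext
      · rw [hT1.a]; simp [x1]
      · rw [hb]; simp [x1]
      · rw [hT1.c]; simp [x1]
      · rw [hT1.d]; simp [x1]
      · rw [hT1.e]; simp [x1]
      · rw [hT1.f]; simp [x1]
    have e2 : k (T1 ⟨x1 a, x1_mem a⟩) = MulAut.conj u (T1 (k ⟨x1 a, x1_mem a⟩)) := by
      have := congrArg (fun γ : MulAut (Qb K) => γ ⟨x1 a, x1_mem a⟩) hu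
      exact this
    have e3 := congrArg (fun x : Qb K => (x : GU K).d) e2
    simp only [e1] at e3
    rw [cb_d, hT1.d, hT1.c, hT1.a, (hk _).1, (hk _).2] at e3
    simp only [x1] at e3 ⊢
    linear_combination -e3
  have hd3 : ∀ c : K, ((k ⟨x3 c, Z4_le_Qb (x3_mem c)⟩ : Qb K) : GU K).d = 2 * (v : GU K).a * c := by
    intro a
    have e1 : T2 ⟨x3 a, Z4_le_Qb (x3_mem a)⟩ = ⟨x3 a, Z4_le_Qb (x3_mem a)⟩ := by
      have hb : ((T2 ⟨x3 a, Z4_le_Qb (x3_mem a)⟩ : Qb K) : GU K).b = 0 := (T2 _).2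
      apply Subtype.ext
      ext
      · rw [hT2.a]; simp [x3]
      · rw [hb]; simp [x3]
      · rw [hT2.c]; simp [x3, h2]
      · rw [hT2.d]; simp [x3]
      · rw [hT2.e]; simp [x3]
      · rw [hT2.f]; simp [x3]
    have e2 : k (T2 ⟨x3 a, Z4_le_Qb (x3_mem a)⟩) = MulAut.conj v (T2 (k ⟨x3 a, Z4_le_Qb (x3_mem a)⟩)) := by
      have := congrArg (fun γ : MulAut (Qb K) => γ ⟨x3 a, Z4_le_Qb (x3_mem a)⟩) hv
      exact this
    have e3 := congrArg (fun x : Qb K => (x : GU K).d) e2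
    simp only [e1] at e3
    rw [cb_d, hT2.d, hT2.c, hT2.a, (hk _).1, (hk _).2] at e3
    simp only [x3] at e3 ⊢
    field_simp at e3
    linear_combination -e3
  refine ⟨⟨⟨(v : GU K).a, 0, (u : GU K).c, 0, 0, 0⟩, rfl⟩, fun x => ?_⟩
  rw [MulAut.mul_apply, cb_d, (hk x).1, (hk x).2]
  obtain ⟨z, hz, hx⟩ := dec_Qb x
  have h4 := hmul ((⟨x1 (x : GU K).a, x1_mem _⟩ : Qb K) * (⟨x3 (x : GU K).c, Z4_le_Qb (x3_mem _)⟩ : Qb K)) z
  rw [← hx] at h4
  have h5 := hmul (⟨x1 (x : GU K).a, x1_mem _⟩ : Qb K) (⟨x3 (x : GU K).c, Z4_le_Qb (x3_mem _)⟩ : Qb K)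
  rw [hd1, hd3] at h5
  rw [map_d h2 h3 hk hz] at h4
  simp only [x1, x3] at h4 h5 ⊢
  linear_combination h4 + h5

omit h3 in
/-- a homomorphism to `K` trivial on `Z₂` is trivial on `Z₃` -/
theorem hom_Z3 {φ : Qb K → K} (hφ : ∀ x y, φ (x * y) = φ x + φ y) (hz : ∀ z : Qb K, (z : GU K) ∈ Z2 K → φ z = 0)
    {x : Qb K} (hx : (x : GU K) ∈ Z3 K) : φ x = 0 := by
  obtain ⟨z, h1, h4⟩ := dec_Z3 h2 hx
  have hone : φ 1 = 0 := by
    have := hφ 1 1
    rw [one_mul] at this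
    linear_combination -this
  have hinv : ∀ y, φ y⁻¹ = - φ y := by
    intro y
    have := hφ y y⁻¹
    rw [mul_inv_cancel, hone] at this
    linear_combination -this
  rw [h4, hφ, hφ, hφ, hφ, hinv, hinv, hz z h1]
  ring

/-- automorphisms trivial on `(a, c)` commuting with the torus modulo `Inn(Q_b)` are inner -/
theorem inner_of_comm {k : MulAut (Qb K)} (hk : TrivAC k)
    (hT : ∀ s t : K, s ≠ 0 → t ≠ 0 → ∀ T : MulAut (Qb K), TorQ T s t → ∃ y : Qb K, k * T = MulAut.conj y * T * k) :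
    k ∈ Inn (Qb K) := by
  obtain ⟨y0, hy0⟩ := step1 h2 h3 hk hT
  set k' := MulAut.conj y0 * k with hk'
  suffices hs : k' ∈ Inn (Qb K) by
    have h1 : k = (MulAut.conj y0)⁻¹ * k' := by rw [hk', inv_mul_cancel_left]
    rw [h1]
    exact (Inn (Qb K)).mul_mem ((Inn (Qb K)).inv_mem ⟨y0, rfl⟩) hs
  have hkk : TrivAC k' := by
    intro e
    rw [hk', MulAut.mul_apply, cb_a, cb_c]
    exact hk e
  have hT' : ∀ s t : K, s ≠ 0 → t ≠ 0 → ∀ T : MulAut (Qb K), TorQ T s t → ∃ y : Qb K, k' * T = MulAut.conj y * T * k' := by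
    intro s t hs ht T hTT
    obtain ⟨y, hy⟩ := hT s t hs ht T hTT
    refine ⟨y0 * y * T y0⁻¹, ?_⟩
    have e1 : T * (MulAut.conj y0)⁻¹ = MulAut.conj (T y0⁻¹) * T := by
      refine MulEquiv.ext fun x => ?_
      simp only [MulAut.mul_apply, MulAut.conj_inv_apply, MulAut.conj_apply, map_mul, map_inv, inv_inv]
    have e2 : k = (MulAut.conj y0)⁻¹ * k' := by rw [hk', inv_mul_cancel_left]
    calc k' * T = MulAut.conj y0 * (k * T) := by rw [hk', mul_assoc]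
      _ = MulAut.conj y0 * (MulAut.conj y * T * k) := by rw [hy]
      _ = MulAut.conj y0 * MulAut.conj y * (T * (MulAut.conj y0)⁻¹) * k' := by rw [e2]; group
      _ = MulAut.conj (y0 * y * T y0⁻¹) * T * k' := by rw [e1, map_mul, map_mul]; group
  clear_value k'
  -- now everything in terms of `k'`
  have hmul_e : ∀ x y : Qb K, ((k' (x * y) : Qb K) : GU K).e - ((x * y : Qb K) : GU K).e =
      (((k' x : Qb K) : GU K).e - (x : GU K).e) + (((k' y : Qb K) : GU K).e - (y : GU K).e) := by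
    intro x y
    have hb : (x : GU K).b = 0 := x.2
    have hb' : ((k' x : Qb K) : GU K).b = 0 := (k' x).2
    rw [map_mul, Subgroup.coe_mul, Subgroup.coe_mul, GU.mul_e, GU.mul_e, (hkk x).2, (hkk y).1, hb, hb', hy0]
    ring
  have hmul_f : ∀ x y : Qb K, ((k' (x * y) : Qb K) : GU K).f - ((x * y : Qb K) : GU K).f =
      (((k' x : Qb K) : GU K).f - (x : GU K).f) + (((k' y : Qb K) : GU K).f - (y : GU K).f) := by
    intro x y
    have hb : (x : GU K).b = 0 := x.2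
    have hb' : ((k' x : Qb K) : GU K).b = 0 := (k' x).2
    have hc : (y : GU K).b = 0 := y.2
    have hc' : ((k' y : Qb K) : GU K).b = 0 := (k' y).2
    rw [map_mul, Subgroup.coe_mul, Subgroup.coe_mul, GU.mul_f, GU.mul_f, (hkk x).2, (hkk y).1, (hkk y).2, hb, hb', hc, hc', hy0]
    ring
  have hZe : ∀ {x : Qb K}, (x : GU K) ∈ Z3 K → ((k' x : Qb K) : GU K).e - (x : GU K).e = 0 := fun {x} hx =>
    hom_Z3 h2 (φ := fun x => ((k' x : Qb K) : GU K).e - (x : GU K).e) hmul_e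
      (fun z hz => by rw [fix_Z2 h2 h3 hkk z hz, sub_self]) hx
  have hZf : ∀ {x : Qb K}, (x : GU K) ∈ Z3 K → ((k' x : Qb K) : GU K).f - (x : GU K).f = 0 := fun {x} hx =>
    hom_Z3 h2 (φ := fun x => ((k' x : Qb K) : GU K).f - (x : GU K).f) hmul_f
      (fun z hz => by rw [fix_Z2 h2 h3 hkk z hz, sub_self]) hx
  -- the torus equations
  have hE : ∀ s t : K, s ≠ 0 → t ≠ 0 → ∀ T : MulAut (Qb K), TorQ T s t → ∃ η : K, ∀ x : Qb K,
      ((k' (T x) : Qb K) : GU K).e = s ^ 3 * t * ((k' x : Qb K) : GU K).e + 3 * η * (s * (x : GU K).a) ∧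
      ((k' (T x) : Qb K) : GU K).f = s ^ 3 * t ^ 2 * ((k' x : Qb K) : GU K).f + 3 * η * (s * t * (x : GU K).c) := by
    intro s t hs ht T hTT
    obtain ⟨y, hy⟩ := hT' s t hs ht T hTT
    have hy' : ∀ x, k' (T x) = MulAut.conj y (T (k' x)) := fun x => congrArg (fun γ : MulAut (Qb K) => γ x) hy
    have hd : ∀ x : Qb K, 2 * (y : GU K).c * (s * (x : GU K).a) = 2 * (y : GU K).a * (s * t * (x : GU K).c) := by
      intro x
      have h6 := congrArg (fun x : Qb K => (x : GU K).d) (hy' x)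
      rw [cb_d, hy0, hTT.d, hTT.d, hy0, hTT.a, hTT.c, (hkk x).1, (hkk x).2] at h6
      linear_combination -h6
    have hc0 : (y : GU K).c = 0 := by
      have h6 := hd ⟨x1 1, x1_mem 1⟩
      simp only [x1] at h6
      apply mul_left_cancel₀ (mul_ne_zero h2 hs)
      linear_combination h6
    have ha0 : (y : GU K).a = 0 := by
      have h6 := hd ⟨x3 1, Z4_le_Qb (x3_mem 1)⟩
      simp only [x3] at h6
      apply mul_left_cancel₀ (mul_ne_zero h2 (mul_ne_zero hs ht))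
      linear_combination -h6
    refine ⟨(y : GU K).d, fun x => ⟨?_, ?_⟩⟩
    · rw [hy', cb_e ha0 hc0, hTT.e, hTT.a, (hkk x).1]
    · rw [hy', cb_f ha0 hc0, hTT.f, hTT.c, (hkk x).2]
  obtain ⟨-, T1, -, -, hT1⟩ := exists_torQ (K := K) one_ne_zero h2
  obtain ⟨-, T2, -, -, hT2⟩ := exists_torQ (K := K) h2 (inv_ne_zero h2)
  obtain ⟨η1, h11⟩ := hE _ _ one_ne_zero h2 T1 hT1
  obtain ⟨η2, h22⟩ := hE _ _ h2 (inv_ne_zero h2) T2 hT2
  have t11 : ∀ a, T1 ⟨x1 a, x1_mem a⟩ = ⟨x1 a, x1_mem a⟩ := by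
    intro a
    have hb : ((T1 ⟨x1 a, x1_mem a⟩ : Qb K) : GU K).b = 0 := (T1 _).2
    apply Subtype.ext
    ext
    · rw [hT1.a]; simp [x1]
    · rw [hb]; simp [x1]
    · rw [hT1.c]; simp [x1]
    · rw [hT1.d]; simp [x1]
    · rw [hT1.e]; simp [x1]
    · rw [hT1.f]; simp [x1]
  have t13 : ∀ a, T1 ⟨x3 a, Z4_le_Qb (x3_mem a)⟩ = ⟨x3 (2 * a), Z4_le_Qb (x3_mem _)⟩ := by
    intro a
    have hb : ((T1 ⟨x3 a, Z4_le_Qb (x3_mem a)⟩ : Qb K) : GU K).b = 0 := (T1 _).2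
    apply Subtype.ext
    ext
    · rw [hT1.a]; simp [x3]
    · rw [hb]; simp [x3]
    · rw [hT1.c]; simp [x3]
    · rw [hT1.d]; simp [x3]
    · rw [hT1.e]; simp [x3]
    · rw [hT1.f]; simp [x3]
  have t23 : ∀ a, T2 ⟨x3 a, Z4_le_Qb (x3_mem a)⟩ = ⟨x3 a, Z4_le_Qb (x3_mem a)⟩ := by
    intro a
    have hb : ((T2 ⟨x3 a, Z4_le_Qb (x3_mem a)⟩ : Qb K) : GU K).b = 0 := (T2 _).2
    apply Subtype.ext
    ext
    · rw [hT2.a]; simp [x3]
    · rw [hb]; simp [x3]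
    · rw [hT2.c]; simp [x3, h2]
    · rw [hT2.d]; simp [x3]
    · rw [hT2.e]; simp [x3]
    · rw [hT2.f]; simp [x3]
  have he1 : ∀ a, ((k' ⟨x1 a, x1_mem a⟩ : Qb K) : GU K).e = -3 * η1 * a := by
    intro a
    have h6 := (h11 ⟨x1 a, x1_mem a⟩).1
    rw [t11] at h6
    simp only [x1] at h6 ⊢
    linear_combination -h6
  have hf1 : ∀ a, ((k' ⟨x1 a, x1_mem a⟩ : Qb K) : GU K).f = 0 := by
    intro a
    have h6 := (h11 ⟨x1 a, x1_mem a⟩).2
    rw [t11] at h6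
    simp only [x1] at h6 ⊢
    apply mul_left_cancel₀ h3
    linear_combination -h6
  have he3 : ∀ a, ((k' ⟨x3 a, Z4_le_Qb (x3_mem a)⟩ : Qb K) : GU K).e = 0 := by
    intro a
    have h6 := (h22 ⟨x3 a, Z4_le_Qb (x3_mem a)⟩).1
    rw [t23] at h6
    simp only [x3] at h6 ⊢
    field_simp at h6
    apply mul_left_cancel₀ h3
    linear_combination -h6
  have hf3 : ∀ a, ((k' ⟨x3 a, Z4_le_Qb (x3_mem a)⟩ : Qb K) : GU K).f = -3 * η2 * a := by
    intro a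
    have h6 := (h22 ⟨x3 a, Z4_le_Qb (x3_mem a)⟩).2
    rw [t23] at h6
    simp only [x3] at h6 ⊢
    field_simp at h6
    linear_combination -h6
  have hη : η1 = η2 := by
    have h6 := (h11 ⟨x3 1, Z4_le_Qb (x3_mem 1)⟩).2
    rw [t13, hf3, hf3] at h6
    simp only [x3] at h6
    apply mul_left_cancel₀ (mul_ne_zero h2 h3)
    linear_combination -h6
  refine ⟨⟨x4 (-η1), Z3_le_Qb (x4_mem _)⟩, MulEquiv.ext fun x => Subtype.ext ?_⟩
  obtain ⟨z, hz, hx⟩ := dec_Qb x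
  have a1 := hmul_e ((⟨x1 (x : GU K).a, x1_mem _⟩ : Qb K) * (⟨x3 (x : GU K).c, Z4_le_Qb (x3_mem _)⟩ : Qb K)) z
  have a2 := hmul_e (⟨x1 (x : GU K).a, x1_mem _⟩ : Qb K) (⟨x3 (x : GU K).c, Z4_le_Qb (x3_mem _)⟩ : Qb K)
  have b1 := hmul_f ((⟨x1 (x : GU K).a, x1_mem _⟩ : Qb K) * (⟨x3 (x : GU K).c, Z4_le_Qb (x3_mem _)⟩ : Qb K)) z
  have b2 := hmul_f (⟨x1 (x : GU K).a, x1_mem _⟩ : Qb K) (⟨x3 (x : GU K).c, Z4_le_Qb (x3_mem _)⟩ : Qb K)
  rw [← hx, hZe hz] at a1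
  rw [← hx, hZf hz] at b1
  rw [he1, he3] at a2
  rw [hf1, hf3] at b2
  have hb : (x : GU K).b = 0 := x.2
  have hb' : ((k' x : Qb K) : GU K).b = 0 := (k' x).2
  have hb'' : ((MulAut.conj (⟨x4 (-η1), Z3_le_Qb (x4_mem _)⟩ : Qb K) x : Qb K) : GU K).b = 0 :=
    (MulAut.conj (⟨x4 (-η1), Z3_le_Qb (x4_mem _)⟩ : Qb K) x).2
  ext
  · rw [cb_a, (hkk x).1]
  · rw [hb', hb'']
  · rw [cb_c, (hkk x).2]
  · rw [cb_d, hy0]; simp only [x4]; ring
  · rw [cb_e rfl rfl]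
    simp only [x1, x3, x4] at a1 a2 ⊢
    linear_combination -a1 - a2
  · rw [cb_f rfl rfl]
    simp only [x1, x3, x4] at b1 b2 ⊢
    linear_combination -b1 - b2 + 3 * (x : GU K).c * (-hη)

end main

/-- **the Weyl element** -/
theorem weyl5 {p n : ℕ} (h : HypG K p n) (h5 : 5 ≤ p) {Γ : Subgroup (MulAut (Qb K))}
    (ker : ∀ γ ∈ Γ, TrivAC γ → γ ∈ Inn (Qb K)) (inn : Inn (Qb K) ≤ Γ)
    (tor : ∀ s t : K, s ≠ 0 → t ≠ 0 → ∀ T : MulAut (Qb K), TorQ T s t → T ∈ Γ)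
    {g : MulAut (Qb K)} (hg : g ∈ Γ)
    (hga : ∀ e : Qb K, ((g e : Qb K) : GU K).a = -(e : GU K).c) (hgc : ∀ e : Qb K, ((g e : Qb K) : GU K).c = (e : GU K).a)
    {w : MulAut (Qb K)} (hw : IsWb w) : w ∈ Γ := by
  have h2 : (2 : K) ≠ 0 := by exact_mod_cast ne_of_le h h5 (m := 2) (by omega) (by omega)
  have h3 : (3 : K) ≠ 0 := by exact_mod_cast ne_of_le h h5 (m := 3) (by omega) (by omega)
  set k := g * w⁻¹ with hk
  have hkac : TrivAC k := by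
    intro e
    have e1 : w (w⁻¹ e) = e := MulAut.apply_inv_self _ _ _
    have e2 := hw.a (w⁻¹ e)
    have e3 := hw.c (w⁻¹ e)
    rw [e1] at e2 e3
    refine ⟨?_, ?_⟩
    · show ((g (w⁻¹ e) : Qb K) : GU K).a = _
      rw [hga, e2]
    · show ((g (w⁻¹ e) : Qb K) : GU K).c = _
      rw [hgc, e3]
  have hin : k ∈ Inn (Qb K) := by
    apply inner_of_comm h2 h3 hkac
    intro s t hs ht T hT
    obtain ⟨-, T', -, -, hT'⟩ := exists_torQ (K := K) (mul_ne_zero hs ht) (inv_ne_zero ht)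
    have hwT : w * T' = T * w := by
      refine MulEquiv.ext fun x => Subtype.ext ?_
      have hb : ((w (T' x) : Qb K) : GU K).b = 0 := (w (T' x)).2
      have hb' : ((T (w x) : Qb K) : GU K).b = 0 := (T (w x)).2
      rw [MulAut.mul_apply, MulAut.mul_apply]
      ext
      · rw [hw.a, hT'.c, hT.a, hw.a]; field_simp
      · rw [hb, hb']
      · rw [hw.c, hT'.a, hT.c, hw.c]
      · rw [hw.d, hT'.a, hT'.c, hT'.d, hT.d, hw.d]; field_simp
      · rw [hw.e, hT'.a, hT'.c, hT'.f, hT.e, hw.e]; field_simp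
      · rw [hw.f, hT'.a, hT'.c, hT'.e, hT.f, hw.f]; field_simp
    have hT'Γ : T' ∈ Γ := tor _ _ (mul_ne_zero hs ht) (inv_ne_zero ht) T' hT'
    have hTΓ : T ∈ Γ := tor s t hs ht T hT
    have hm : k * T * k⁻¹ * T⁻¹ ∈ Γ := by
      have e1 : k * T * k⁻¹ * T⁻¹ = g * T' * g⁻¹ * T⁻¹ := by
        have e2 : T' = w⁻¹ * (T * w) := by rw [← hwT, inv_mul_cancel_left]
        rw [hk, e2]; group
      rw [e1]
      exact Γ.mul_mem (Γ.mul_mem (Γ.mul_mem hg hT'Γ) (Γ.inv_mem hg)) (Γ.inv_mem hTΓ)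
    have hac : TrivAC (k * T * k⁻¹ * T⁻¹) := by
      have e1 : k * T * k⁻¹ * T⁻¹ = k * (T * k⁻¹ * T⁻¹) := by group
      rw [e1]
      exact hkac.mul (TrivAC.conj h2 h3 hkac.inv T)
    obtain ⟨y, hy⟩ := ker _ hm hac
    refine ⟨y, ?_⟩
    rw [hy]; group
  have e1 : w = k⁻¹ * g := by rw [hk]; group
  rw [e1]
  exact Γ.mul_mem (Γ.inv_mem (inn hin)) hg

/-- the torus elements are restrictions -/
theorem TorQ.isR {K : Type u} [Field K] {T : MulAut (Qb K)} {s t : K} (hT : TorQ T s t) {α : MulAut (GU K)}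
    (hα : IsTor α s t (RingEquiv.refl K)) : IsR α T := by
  intro e
  have hb : (e : GU K).b = 0 := e.2
  have hb' : ((T e : Qb K) : GU K).b = 0 := (T e).2
  ext
  · rw [hT.a, hα.a]; rfl
  · rw [hb', hα.b, hb]; simp
  · rw [hT.c, hα.c]; rfl
  · rw [hT.d, hα.d]; rfl
  · rw [hT.e, hα.e]; rfl
  · rw [hT.f, hα.f]; rfl

/-- **(LB-5)** `StLb` for `p ≥ 5` -/
theorem stLb_five {K : Type u} [Field K] {p n : ℕ} (h : HypG K p n) (h5 : 5 ≤ p)
    (Γ : Subgroup (MulAut (Qb K))) (D : Subgroup (MulAut (GU K))) (hp : Par p (Qb K) Γ D) :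
    HasTor D (fun t => t⁻¹) (fun t => t ^ 2) ∧ (Full D → Γ = Gen IsWb D) := by
  have hL : LbH K p n Γ D := by
    refine ⟨h, by omega, ?_, hp, fun γ hγ hac => ker5 h h5 hp.syl hγ hac, stGrp⟩
    calc 5 ≤ p := h5
      _ = p ^ 1 := (pow_one p).symm
      _ ≤ p ^ n := Nat.pow_le_pow_right (by omega) h.hn
  refine ⟨hL.hasTor, fun hF => ?_⟩
  obtain ⟨w, hw⟩ := (stGrp h).2.2.2.2.2.1
  refine hL.eq_Gen hw ?_
  obtain ⟨g, hg, hgw⟩ := hL.exists_g hw
  have hgu : ∀ e : Qb K, Cfsg.Agent.H904.GT.uu ((g e : Qb K) : GU K) = ((e : GU K).a, -(e : GU K).c) := by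
    intro e
    rw [← Cfsg.Agent.H904.GT.pi_uu hL.hyp hL.odd g e, hgw, Cfsg.Agent.H904.GT.pi_wb hL.hyp hL.odd hw]
    rfl
  refine weyl5 h h5 (fun γ hγ hac => ker5 h h5 hp.syl hγ hac) hL.Inn_le_G ?_ hg
    (fun e => congrArg Prod.snd (hgu e)) (fun e => congrArg Prod.fst (hgu e)) hw
  intro s t hs ht T hT
  obtain ⟨α, hα⟩ := exists_tor (K := K) (RingEquiv.refl K) hs ht
  exact hp.D_res α (hF s t α hα) T (hT.isR hα)

end Cfsg.Agent.H353.GT
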