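import Cfsg.Agent.H353.GT.Lb5
import Cfsg.Agent.H24.Q5.Fus

/-!
# S5211, `q = 5`: `StLb5`

The same argument as in `Lb5.lean` with the three torus elements `(1,-1)`, `(-1,-1)`, `(2,1)` only.
-/

set_option autoImplicit false

namespace Cfsg.Agent.H353.GT

open Cfsg Cfsg.Agent.H779.G2 Cfsg.Agent.H756.PU Cfsg.Agent.H103.GT
open Cfsg.Agent.H904.GT (LbH)

universe u

variable {K : Type u} [Field K]

theorem TorQ.unique {T T' : MulAut (Qb K)} {s t : K} (h : TorQ T s t) (h' : TorQ T' s t) : T = T' := by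
  refine MulEquiv.ext fun x => Subtype.ext ?_
  have hb : ((T x : Qb K) : GU K).b = 0 := (T x).2
  have hb' : ((T' x : Qb K) : GU K).b = 0 := (T' x).2
  ext
  · rw [h.a, h'.a]
  · rw [hb, hb']
  · rw [h.c, h'.c]
  · rw [h.d, h'.d]
  · rw [h.e, h'.e]
  · rw [h.f, h'.f]

theorem TorQ.mul {T T' : MulAut (Qb K)} {s t s' t' : K} (h : TorQ T s t) (h' : TorQ T' s' t') :
    TorQ (T * T') (s * s') (t * t') := by
  constructor
  · intro g; rw [MulAut.mul_apply, h.a, h'.a]; ring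
  · intro g; rw [MulAut.mul_apply, h.c, h'.c]; ring
  · intro g; rw [MulAut.mul_apply, h.d, h'.d]; ring
  · intro g; rw [MulAut.mul_apply, h.e, h'.e]; ring
  · intro g; rw [MulAut.mul_apply, h.f, h'.f]; ring

/-- `k` commutes with `tor(s,t)` modulo inner automorphisms -/
def PT (k : MulAut (Qb K)) (s t : K) : Prop :=
  ∀ T : MulAut (Qb K), TorQ T s t → ∃ y : Qb K, k * T = MulAut.conj y * T * k

theorem torQ_x1 {T : MulAut (Qb K)} {s t : K} (hT : TorQ T s t) (a : K) :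
    T ⟨x1 a, x1_mem a⟩ = ⟨x1 (s * a), x1_mem _⟩ := by
  have hb : ((T ⟨x1 a, x1_mem a⟩ : Qb K) : GU K).b = 0 := (T _).2
  apply Subtype.ext
  ext
  · rw [hT.a]; simp [x1]
  · rw [hb]; simp [x1]
  · rw [hT.c]; simp [x1]
  · rw [hT.d]; simp [x1]
  · rw [hT.e]; simp [x1]
  · rw [hT.f]; simp [x1]

theorem torQ_x3 {T : MulAut (Qb K)} {s t : K} (hT : TorQ T s t) (a : K) :
    T ⟨x3 a, Z4_le_Qb (x3_mem a)⟩ = ⟨x3 (s * t * a), Z4_le_Qb (x3_mem _)⟩ := by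
  have hb : ((T ⟨x3 a, Z4_le_Qb (x3_mem a)⟩ : Qb K) : GU K).b = 0 := (T _).2
  apply Subtype.ext
  ext
  · rw [hT.a]; simp [x3]
  · rw [hb]; simp [x3]
  · rw [hT.c]; simp [x3]
  · rw [hT.d]; simp [x3]
  · rw [hT.e]; simp [x3]
  · rw [hT.f]; simp [x3]

section main
variable (h2 : (2 : K) ≠ 0) (h3 : (3 : K) ≠ 0)
include h2 h3

theorem step1' {k : MulAut (Qb K)} (hk : TrivAC k) (hA : PT k 1 (-1)) (hB : PT k (-1) (-1)) :
    ∃ y0 : Qb K, ∀ x : Qb K, (((MulAut.conj y0 * k) x : Qb K) : GU K).d = (x : GU K).d := by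
  have hmul : ∀ x y : Qb K, ((k (x * y) : Qb K) : GU K).d - ((x * y : Qb K) : GU K).d =
      (((k x : Qb K) : GU K).d - (x : GU K).d) + (((k y : Qb K) : GU K).d - (y : GU K).d) := by
    intro x y
    have hb : (x : GU K).b = 0 := x.2
    have hb' : ((k x : Qb K) : GU K).b = 0 := (k x).2
    rw [map_mul, Subgroup.coe_mul, Subgroup.coe_mul, GU.mul_d, GU.mul_d, (hk x).2, (hk y).1, hb, hb']
    ring
  have hm1 : (-1 : K) ≠ 0 := neg_ne_zero.2 one_ne_zero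
  obtain ⟨-, T1, -, -, hT1⟩ := exists_torQ (K := K) one_ne_zero hm1
  obtain ⟨-, T2, -, -, hT2⟩ := exists_torQ (K := K) hm1 hm1
  obtain ⟨u, hu⟩ := hA T1 hT1
  obtain ⟨v, hv⟩ := hB T2 hT2
  have hd1 : ∀ a : K, ((k ⟨x1 a, x1_mem a⟩ : Qb K) : GU K).d = (u : GU K).c * a := by
    intro a
    have e1 : T1 ⟨x1 a, x1_mem a⟩ = ⟨x1 a, x1_mem a⟩ := by rw [torQ_x1 hT1]; simp only [one_mul]
    have e2 : k (T1 ⟨x1 a, x1_mem a⟩) = MulAut.conj u (T1 (k ⟨x1 a, x1_mem a⟩)) := by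
      have := congrArg (fun γ : MulAut (Qb K) => γ ⟨x1 a, x1_mem a⟩) hu
      exact this
    have e3 := congrArg (fun x : Qb K => (x : GU K).d) e2
    simp only [e1] at e3
    rw [cb_d, hT1.d, hT1.c, hT1.a, (hk _).1, (hk _).2] at e3
    simp only [x1] at e3 ⊢
    apply mul_left_cancel₀ h2
    linear_combination e3
  have hd3 : ∀ c : K, ((k ⟨x3 c, Z4_le_Qb (x3_mem c)⟩ : Qb K) : GU K).d = -(v : GU K).a * c := by
    intro a
    have e1 : T2 ⟨x3 a, Z4_le_Qb (x3_mem a)⟩ = ⟨x3 a, Z4_le_Qb (x3_mem a)⟩ := by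
      rw [torQ_x3 hT2]; simp only [mul_neg, mul_one, neg_neg, one_mul]
    have e2 : k (T2 ⟨x3 a, Z4_le_Qb (x3_mem a)⟩) = MulAut.conj v (T2 (k ⟨x3 a, Z4_le_Qb (x3_mem a)⟩)) := by
      have := congrArg (fun γ : MulAut (Qb K) => γ ⟨x3 a, Z4_le_Qb (x3_mem a)⟩) hv
      exact this
    have e3 := congrArg (fun x : Qb K => (x : GU K).d) e2
    simp only [e1] at e3
    rw [cb_d, hT2.d, hT2.c, hT2.a, (hk _).1, (hk _).2] at e3
    simp only [x3] at e3 ⊢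
    apply mul_left_cancel₀ h2
    linear_combination e3
  refine ⟨⟨⟨-(v : GU K).a / 2, 0, -(u : GU K).c / 2, 0, 0, 0⟩, rfl⟩, fun x => ?_⟩
  rw [MulAut.mul_apply, cb_d, (hk x).1, (hk x).2]
  obtain ⟨z, hz, hx⟩ := dec_Qb x
  have h4 := hmul ((⟨x1 (x : GU K).a, x1_mem _⟩ : Qb K) * (⟨x3 (x : GU K).c, Z4_le_Qb (x3_mem _)⟩ : Qb K)) z
  rw [← hx] at h4
  have h5 := hmul (⟨x1 (x : GU K).a, x1_mem _⟩ : Qb K) (⟨x3 (x : GU K).c, Z4_le_Qb (x3_mem _)⟩ : Qb K)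
  rw [hd1, hd3] at h5
  rw [map_d h2 h3 hk hz] at h4
  simp only [x1, x3] at h4 h5 ⊢
  field_simp
  linear_combination h4 + h5

omit h2 h3 in
theorem PT.conj {k : MulAut (Qb K)} {s t : K} (h : PT k s t) (y0 : Qb K) : PT (MulAut.conj y0 * k) s t := by
  intro T hTT
  obtain ⟨y, hy⟩ := h T hTT
  refine ⟨y0 * y * T y0⁻¹, ?_⟩
  have e1 : T * (MulAut.conj y0)⁻¹ = MulAut.conj (T y0⁻¹) * T := by
    refine MulEquiv.ext fun x => ?_
    simp only [MulAut.mul_apply, MulAut.conj_inv_apply, map_mul, map_inv, MulAut.conj_apply, inv_inv]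
  have e2 : k = (MulAut.conj y0)⁻¹ * (MulAut.conj y0 * k) := by rw [inv_mul_cancel_left]
  calc MulAut.conj y0 * k * T = MulAut.conj y0 * (k * T) := by rw [mul_assoc]
    _ = MulAut.conj y0 * (MulAut.conj y * T * k) := by rw [hy]
    _ = MulAut.conj y0 * MulAut.conj y * (T * (MulAut.conj y0)⁻¹) * (MulAut.conj y0 * k) := by group
    _ = MulAut.conj (y0 * y * T y0⁻¹) * T * (MulAut.conj y0 * k) := by rw [e1, map_mul, map_mul]; group

theorem inner_of_comm' {k : MulAut (Qb K)} (hk : TrivAC k) (hA : PT k 1 (-1)) (hB : PT k (-1) (-1)) (hC : PT k 2 1) :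
    k ∈ Inn (Qb K) := by
  obtain ⟨y0, hy0⟩ := step1' h2 h3 hk hA hB
  have hA' := hA.conj y0
  have hC' := hC.conj y0
  set k' := MulAut.conj y0 * k with hk'
  suffices hs : k' ∈ Inn (Qb K) by
    have h1 : k = (MulAut.conj y0)⁻¹ * k' := by rw [hk', inv_mul_cancel_left]
    rw [h1]
    exact (Inn (Qb K)).mul_mem ((Inn (Qb K)).inv_mem ⟨y0, rfl⟩) hs
  have hkk : TrivAC k' := by
    intro e
    rw [hk', MulAut.mul_apply, cb_a, cb_c]
    exact hk e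
  clear_value k'
  have hmul_e : ∀ x y : Qb K, ((k' (x * y) : Qb K) : GU K).e - ((x * y : Qb K) : GU K).e =
      (((k' x : Qb K) : GU K).e - (x : GU K).e) + (((k' y : Qb K) : GU K).e - (y : GU K).e) := by
    intro x y
    have hb : (x : GU K).b = 0 := x.2
    have hb' : ((k' x : Qb K) : GU K).b = 0 := (k' x).2
    rw [map_mul, Subgroup.coe_mul, Subgroup.coe_mul, GU.mul_e, GU.mul_e, (hkk x).2, (hkk y).1, hb, hb', hy0]
    ring
  have hmul_f : ∀ x y : Qb K, ((k' (x * y) : Qb K) : GU K).f - ((x * y : Qb K) : GU K).f =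
      (((k' x : Qb K) : GU K).f - (x : GU K).f) + (((k' y : Qb K) : GU K).f - (y : GU K).f) := by
    intro x y
    have hb : (x : GU K).b = 0 := x.2
    have hb' : ((k' x : Qb K) : GU K).b = 0 := (k' x).2
    have hc : (y : GU K).b = 0 := y.2
    have hc' : ((k' y : Qb K) : GU K).b = 0 := (k' y).2
    rw [map_mul, Subgroup.coe_mul, Subgroup.coe_mul, GU.mul_f, GU.mul_f, (hkk x).2, (hkk y).1, (hkk y).2, hb, hb', hc, hc', hy0]
    ring
  have hZe : ∀ {x : Qb K}, (x : GU K) ∈ Z3 K → ((k' x : Qb K) : GU K).e - (x : GU K).e = 0 := fun {x} hx =>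
    hom_Z3 h2 (φ := fun x => ((k' x : Qb K) : GU K).e - (x : GU K).e) hmul_e
      (fun z hz => by rw [fix_Z2 h2 h3 hkk z hz, sub_self]) hx
  have hZf : ∀ {x : Qb K}, (x : GU K) ∈ Z3 K → ((k' x : Qb K) : GU K).f - (x : GU K).f = 0 := fun {x} hx =>
    hom_Z3 h2 (φ := fun x => ((k' x : Qb K) : GU K).f - (x : GU K).f) hmul_f
      (fun z hz => by rw [fix_Z2 h2 h3 hkk z hz, sub_self]) hx
  -- the torus equations
  have hE : ∀ s t : K, s ≠ 0 → t ≠ 0 → PT k' s t → ∀ T : MulAut (Qb K), TorQ T s t → ∃ η : K, ∀ x : Qb K,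
      ((k' (T x) : Qb K) : GU K).e = s ^ 3 * t * ((k' x : Qb K) : GU K).e + 3 * η * (s * (x : GU K).a) ∧
      ((k' (T x) : Qb K) : GU K).f = s ^ 3 * t ^ 2 * ((k' x : Qb K) : GU K).f + 3 * η * (s * t * (x : GU K).c) := by
    intro s t hs ht hP T hTT
    obtain ⟨y, hy⟩ := hP T hTT
    have hy' : ∀ x, k' (T x) = MulAut.conj y (T (k' x)) := fun x => congrArg (fun γ : MulAut (Qb K) => γ x) hy
    have hd : ∀ x : Qb K, 2 * (y : GU K).c * (s * (x : GU K).a) = 2 * (y : GU K).a * (s * t * (x : GU K).c) := by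
      intro x
      have h6 := congrArg (fun x : Qb K => (x : GU K).d) (hy' x)
      rw [cb_d, hy0, hTT.d, hTT.d, hy0, hTT.a, hTT.c, (hkk x).1, (hkk x).2] at h6
      linear_combination -h6
    have hc0 : (y : GU K).c = 0 := by
      have h6 := hd ⟨x1 1, x1_mem 1⟩
      simp only [x1] at h6
      apply mul_left_cancel₀ (mul_ne_zero h2 hs)
      linear_combination h6
    have ha0 : (y : GU K).a = 0 := by
      have h6 := hd ⟨x3 1, Z4_le_Qb (x3_mem 1)⟩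
      simp only [x3] at h6
      apply mul_left_cancel₀ (mul_ne_zero h2 (mul_ne_zero hs ht))
      linear_combination -h6
    refine ⟨(y : GU K).d, fun x => ⟨?_, ?_⟩⟩
    · rw [hy', cb_e ha0 hc0, hTT.e, hTT.a, (hkk x).1]
    · rw [hy', cb_f ha0 hc0, hTT.f, hTT.c, (hkk x).2]
  have hm1 : (-1 : K) ≠ 0 := neg_ne_zero.2 one_ne_zero
  obtain ⟨-, T1, -, -, hT1⟩ := exists_torQ (K := K) one_ne_zero hm1
  obtain ⟨-, T2, -, -, hT2⟩ := exists_torQ (K := K) h2 one_ne_zero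
  obtain ⟨η1, h11⟩ := hE _ _ one_ne_zero hm1 hA' T1 hT1
  obtain ⟨η2, h22⟩ := hE _ _ h2 one_ne_zero hC' T2 hT2
  -- additivity along the root groups
  have ad1 : ∀ a b : K, (⟨x1 (a + b), x1_mem _⟩ : Qb K) = ⟨x1 a, x1_mem a⟩ * ⟨x1 b, x1_mem b⟩ := by
    intro a b
    apply Subtype.ext
    rw [Subgroup.coe_mul]
    ext <;> simp [x1]
  have ad3 : ∀ a b : K, (⟨x3 (a + b), Z4_le_Qb (x3_mem _)⟩ : Qb K) =
      ⟨x3 a, Z4_le_Qb (x3_mem a)⟩ * ⟨x3 b, Z4_le_Qb (x3_mem b)⟩ := by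
    intro a b
    apply Subtype.ext
    rw [Subgroup.coe_mul]
    ext <;> simp [x3]
  have he1 : ∀ a, ((k' ⟨x1 a, x1_mem a⟩ : Qb K) : GU K).e = 3 * (η1 / 2) * a := by
    intro a
    have h6 := (h11 ⟨x1 a, x1_mem a⟩).1
    rw [torQ_x1 hT1] at h6
    simp only [x1, one_mul] at h6 ⊢
    field_simp
    linear_combination h6
  have hf3 : ∀ a, ((k' ⟨x3 a, Z4_le_Qb (x3_mem a)⟩ : Qb K) : GU K).f = 3 * (η1 / 2) * a := by
    intro a
    have h6 := (h11 ⟨x3 a, Z4_le_Qb (x3_mem a)⟩).2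
    rw [torQ_x3 hT1] at h6
    have h7 := hmul_f ⟨x3 a, Z4_le_Qb (x3_mem a)⟩ ⟨x3 (-a), Z4_le_Qb (x3_mem (-a))⟩
    rw [← ad3, show (⟨x3 (a + -a), Z4_le_Qb (x3_mem _)⟩ : Qb K) = 1 from Subtype.ext (by
      rw [add_neg_cancel]; rfl), map_one] at h7
    simp only [x3, one_mul, neg_mul, Subgroup.coe_one, GU.one_f] at h6 h7 ⊢
    field_simp
    linear_combination -h6 - h7
  have hf1 : ∀ a, ((k' ⟨x1 a, x1_mem a⟩ : Qb K) : GU K).f = 0 := by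
    intro a
    have h6 := (h22 ⟨x1 a, x1_mem a⟩).2
    rw [torQ_x1 hT2] at h6
    have h7 := hmul_f ⟨x1 a, x1_mem a⟩ ⟨x1 a, x1_mem a⟩
    rw [← ad1, ← two_mul] at h7
    simp only [x1] at h6 h7 ⊢
    apply mul_left_cancel₀ (mul_ne_zero h2 h3)
    linear_combination -h6 + h7
  have he3 : ∀ a, ((k' ⟨x3 a, Z4_le_Qb (x3_mem a)⟩ : Qb K) : GU K).e = 0 := by
    intro a
    have h6 := (h22 ⟨x3 a, Z4_le_Qb (x3_mem a)⟩).1
    rw [torQ_x3 hT2] at h6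
    have h7 := hmul_e ⟨x3 a, Z4_le_Qb (x3_mem a)⟩ ⟨x3 a, Z4_le_Qb (x3_mem a)⟩
    rw [← ad3, ← two_mul] at h7
    simp only [x3, mul_one] at h6 h7 ⊢
    apply mul_left_cancel₀ (mul_ne_zero h2 h3)
    linear_combination -h6 + h7
  refine ⟨⟨x4 (η1 / 2), Z3_le_Qb (x4_mem _)⟩, MulEquiv.ext fun x => Subtype.ext ?_⟩
  obtain ⟨z, hz, hx⟩ := dec_Qb x
  have a1 := hmul_e ((⟨x1 (x : GU K).a, x1_mem _⟩ : Qb K) * (⟨x3 (x : GU K).c, Z4_le_Qb (x3_mem _)⟩ : Qb K)) z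
  have a2 := hmul_e (⟨x1 (x : GU K).a, x1_mem _⟩ : Qb K) (⟨x3 (x : GU K).c, Z4_le_Qb (x3_mem _)⟩ : Qb K)
  have b1 := hmul_f ((⟨x1 (x : GU K).a, x1_mem _⟩ : Qb K) * (⟨x3 (x : GU K).c, Z4_le_Qb (x3_mem _)⟩ : Qb K)) z
  have b2 := hmul_f (⟨x1 (x : GU K).a, x1_mem _⟩ : Qb K) (⟨x3 (x : GU K).c, Z4_le_Qb (x3_mem _)⟩ : Qb K)
  rw [← hx, hZe hz] at a1
  rw [← hx, hZf hz] at b1
  rw [he1, he3] at a2
  rw [hf1, hf3] at b2
  have hb : (x : GU K).b = 0 := x.2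
  have hb' : ((k' x : Qb K) : GU K).b = 0 := (k' x).2
  have hb'' : ((MulAut.conj (⟨x4 (η1 / 2), Z3_le_Qb (x4_mem _)⟩ : Qb K) x : Qb K) : GU K).b = 0 :=
    (MulAut.conj (⟨x4 (η1 / 2), Z3_le_Qb (x4_mem _)⟩ : Qb K) x).2
  ext
  · rw [cb_a, (hkk x).1]
  · rw [hb', hb'']
  · rw [cb_c, (hkk x).2]
  · rw [cb_d, hy0]; simp only [x4]; ring
  · rw [cb_e rfl rfl]
    simp only [x1, x3, x4] at a1 a2 ⊢
    linear_combination -a1 - a2
  · rw [cb_f rfl rfl]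
    simp only [x1, x3, x4] at b1 b2 ⊢
    linear_combination -b1 - b2

end main

/-- **the Weyl element**, with three torus elements only -/
theorem weyl5' {p n : ℕ} (h : HypG K p n) (h5 : 5 ≤ p) {Γ : Subgroup (MulAut (Qb K))}
    (ker : ∀ γ ∈ Γ, TrivAC γ → γ ∈ Inn (Qb K)) (inn : Inn (Qb K) ≤ Γ)
    (tA : ∀ T : MulAut (Qb K), TorQ T 1 (-1) → T ∈ Γ) (tB : ∀ T : MulAut (Qb K), TorQ T (-1) (-1) → T ∈ Γ)
    (tC : ∀ T : MulAut (Qb K), TorQ T 2 1 → T ∈ Γ)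
    {g : MulAut (Qb K)} (hg : g ∈ Γ)
    (hga : ∀ e : Qb K, ((g e : Qb K) : GU K).a = -(e : GU K).c) (hgc : ∀ e : Qb K, ((g e : Qb K) : GU K).c = (e : GU K).a)
    {w : MulAut (Qb K)} (hw : IsWb w) : w ∈ Γ := by
  have h2 : (2 : K) ≠ 0 := by exact_mod_cast ne_of_le h h5 (m := 2) (by omega) (by omega)
  have h3 : (3 : K) ≠ 0 := by exact_mod_cast ne_of_le h h5 (m := 3) (by omega) (by omega)
  have hm1 : (-1 : K) ≠ 0 := neg_ne_zero.2 one_ne_zero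
  set k := g * w⁻¹ with hk
  have hkac : TrivAC k := by
    intro e
    have e1 : w (w⁻¹ e) = e := MulAut.apply_inv_self _ _ _
    have e2 := hw.a (w⁻¹ e)
    have e3 := hw.c (w⁻¹ e)
    rw [e1] at e2 e3
    refine ⟨?_, ?_⟩
    · show ((g (w⁻¹ e) : Qb K) : GU K).a = _
      rw [hga, e2]
    · show ((g (w⁻¹ e) : Qb K) : GU K).c = _
      rw [hgc, e3]
  have main : ∀ s t : K, s ≠ 0 → t ≠ 0 → (∀ T : MulAut (Qb K), TorQ T s t → T ∈ Γ) →
      (∀ T : MulAut (Qb K), TorQ T (s * t) t⁻¹ → T ∈ Γ) → PT k s t := by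
    intro s t hs ht hΓ hΓ' T hT
    obtain ⟨-, T', -, -, hT'⟩ := exists_torQ (K := K) (mul_ne_zero hs ht) (inv_ne_zero ht)
    have hwT : w * T' = T * w := by
      refine MulEquiv.ext fun x => Subtype.ext ?_
      have hb : ((w (T' x) : Qb K) : GU K).b = 0 := (w (T' x)).2
      have hb' : ((T (w x) : Qb K) : GU K).b = 0 := (T (w x)).2
      rw [MulAut.mul_apply, MulAut.mul_apply]
      ext
      · rw [hw.a, hT'.c, hT.a, hw.a]; field_simp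
      · rw [hb, hb']
      · rw [hw.c, hT'.a, hT.c, hw.c]
      · rw [hw.d, hT'.a, hT'.c, hT'.d, hT.d, hw.d]; field_simp
      · rw [hw.e, hT'.a, hT'.c, hT'.f, hT.e, hw.e]; field_simp
      · rw [hw.f, hT'.a, hT'.c, hT'.e, hT.f, hw.f]; field_simp
    have hT'Γ : T' ∈ Γ := hΓ' T' hT'
    have hTΓ : T ∈ Γ := hΓ T hT
    have hm : k * T * k⁻¹ * T⁻¹ ∈ Γ := by
      have e1 : k * T * k⁻¹ * T⁻¹ = g * T' * g⁻¹ * T⁻¹ := by
        have e2 : T' = w⁻¹ * (T * w) := by rw [← hwT, inv_mul_cancel_left]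
        rw [hk, e2]; group
      rw [e1]
      exact Γ.mul_mem (Γ.mul_mem (Γ.mul_mem hg hT'Γ) (Γ.inv_mem hg)) (Γ.inv_mem hTΓ)
    have hac : TrivAC (k * T * k⁻¹ * T⁻¹) := by
      have e1 : k * T * k⁻¹ * T⁻¹ = k * (T * k⁻¹ * T⁻¹) := by group
      rw [e1]
      exact hkac.mul (TrivAC.conj h2 h3 hkac.inv T)
    obtain ⟨y, hy⟩ := ker _ hm hac
    refine ⟨y, ?_⟩
    rw [hy]; group
  have e1 : (1 : K) * (-1) = -1 := by ring
  have e2 : (-1 : K) * (-1) = 1 := by ring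
  have e3 : (-1 : K)⁻¹ = -1 := by rw [inv_neg, inv_one]
  have hin : k ∈ Inn (Qb K) := by
    apply inner_of_comm' h2 h3 hkac
    · exact main 1 (-1) one_ne_zero hm1 tA (by rw [e1, e3]; exact tB)
    · exact main (-1) (-1) hm1 hm1 tB (by rw [e2, e3]; exact tA)
    · exact main 2 1 h2 one_ne_zero tC (by rw [mul_one, inv_one]; exact tC)
  have e1 : w = k⁻¹ * g := by rw [hk]; group
  rw [e1]
  exact Γ.mul_mem (Γ.inv_mem (inn hin)) hg

theorem hypG5 : HypG (ZMod 5) 5 1 :=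
  ⟨by norm_num, le_rfl, inferInstance, by rw [Nat.card_zmod]; norm_num, ZMod.charP 5⟩

/-- **(Lb5)** -/
theorem stLb5 : Cfsg.Agent.H24.Q5.StLb5 := by
  intro Γ D hp
  refine ⟨(stLb_five hypG5 le_rfl Γ D hp).1, fun hD => ?_⟩
  have hTor := (stLb_five hypG5 le_rfl Γ D hp).1
  have hL : LbH (ZMod 5) 5 1 Γ D :=
    ⟨hypG5, by norm_num, by norm_num, hp, fun γ hγ hac => ker5 hypG5 le_rfl hp.syl hγ hac, stGrp⟩
  obtain ⟨w, hw⟩ := (stGrp hypG5).2.2.2.2.2.1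
  refine hL.eq_Gen hw ?_
  obtain ⟨g, hg, hgw⟩ := hL.exists_g hw
  have hgu : ∀ e : Qb (ZMod 5), Cfsg.Agent.H904.GT.uu ((g e : Qb (ZMod 5)) : GU (ZMod 5)) =
      ((e : GU (ZMod 5)).a, -(e : GU (ZMod 5)).c) := by
    intro e
    rw [← Cfsg.Agent.H904.GT.pi_uu hL.hyp hL.odd g e, hgw, Cfsg.Agent.H904.GT.pi_wb hL.hyp hL.odd hw]
    rfl
  have hm1 : (-1 : ZMod 5) ≠ 0 := by decide
  -- the element `(1,-1)`
  have tA : ∀ T : MulAut (Qb (ZMod 5)), TorQ T 1 (-1) → T ∈ Γ := by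
    intro T hT
    obtain ⟨α, hα⟩ := exists_tor (K := ZMod 5) (RingEquiv.refl _) one_ne_zero hm1
    exact hp.D_res α (hD α hα) T (hT.isR hα)
  have tt : ∀ t : ZMod 5, t ≠ 0 → ∀ T : MulAut (Qb (ZMod 5)), TorQ T t⁻¹ (t ^ 2) → T ∈ Γ := by
    intro t ht T hT
    obtain ⟨α, hα⟩ := exists_tor (K := ZMod 5) (RingEquiv.refl _) (inv_ne_zero ht) (pow_ne_zero 2 ht)
    exact hp.D_res α (hTor t ht α hα) T (hT.isR hα)
  obtain ⟨-, TA, -, -, hTA⟩ := exists_torQ (K := ZMod 5) one_ne_zero hm1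
  refine weyl5' hypG5 le_rfl (fun γ hγ hac => ker5 hypG5 le_rfl hp.syl hγ hac) hL.Inn_le_G tA ?_ ?_ hg
    (fun e => congrArg Prod.snd (hgu e)) (fun e => congrArg Prod.fst (hgu e)) hw
  · intro T hT
    obtain ⟨-, T1, -, -, hT1⟩ := exists_torQ (K := ZMod 5) (s := (-1)⁻¹) (t := (-1) ^ 2) (inv_ne_zero hm1) (by decide)
    have h1 := hT1.mul hTA
    rw [show ((-1 : ZMod 5)⁻¹ * 1 : ZMod 5) = -1 by rw [inv_neg, inv_one, mul_one], show ((-1 : ZMod 5) ^ 2 * (-1) : ZMod 5) = -1 by decide] at h1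
    rw [hT.unique h1]
    exact Γ.mul_mem (tt (-1) (by decide) T1 hT1) (tA TA hTA)
  · intro T hT
    obtain ⟨-, T1, -, -, hT1⟩ := exists_torQ (K := ZMod 5) (s := (3)⁻¹) (t := (3) ^ 2) (inv_ne_zero (by decide)) (by decide)
    have h1 := hT1.mul hTA
    rw [show ((3 : ZMod 5)⁻¹ * 1 : ZMod 5) = 2 by
      rw [mul_one]; exact inv_eq_of_mul_eq_one_right (by decide), show ((3 : ZMod 5) ^ 2 * (-1) : ZMod 5) = 1 by decide] at h1
    rw [hT.unique h1]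
    exact Γ.mul_mem (tt 3 (by decide) T1 hT1) (tA TA hTA)

end Cfsg.Agent.H353.GT
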