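import Cfsg.Agent.H103.GT.Coord
import Cfsg.Agent.H103.GT.Grp
import Cfsg.Agent.H732.PU.Chain

/-!
# S5211, the long root parabolic, `p ≥ 5`: the kernel on `Q_b / Z₃` and the Weyl element

* `ker5` : the elements of `Γ` acting trivially on `(a, c)` are inner;
* `weyl5` : if `Γ` contains an element acting on `(a, c)` as `IsWb` and `D` contains the torus then all `w` with `IsWb w` are in `Γ`.
-/

set_option autoImplicit false

namespace Cfsg.Agent.H353.GT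

open Cfsg Cfsg.Agent.H779.G2 Cfsg.Agent.H756.PU Cfsg.Agent.H103.GT
open Cfsg.Agent.H732.PU (Triv Fx fx_step)

universe u

variable {K : Type u} [Field K]

/-- the action on `(a, c)` is trivial -/
def TrivAC (γ : MulAut (Qb K)) : Prop :=
  ∀ e : Qb K, ((γ e : Qb K) : GU K).a = (e : GU K).a ∧ ((γ e : Qb K) : GU K).c = (e : GU K).c

theorem TrivAC.mul {γ δ : MulAut (Qb K)} (h : TrivAC γ) (h' : TrivAC δ) : TrivAC (γ * δ) := fun e =>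
  ⟨(h (δ e)).1.trans (h' e).1, (h (δ e)).2.trans (h' e).2⟩

theorem TrivAC.inv {γ : MulAut (Qb K)} (h : TrivAC γ) : TrivAC γ⁻¹ := fun e => by
  have h1 := h (γ⁻¹ e)
  rw [MulAut.apply_inv_self] at h1
  exact ⟨h1.1.symm, h1.2.symm⟩

theorem trivAC_one : TrivAC (1 : MulAut (Qb K)) := fun _ => ⟨rfl, rfl⟩

variable (K) in
/-- the group of these automorphisms -/
def NAC : Subgroup (MulAut (Qb K)) where
  carrier := {γ | TrivAC γ}
  one_mem' := trivAC_one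
  mul_mem' := fun h h' => h.mul h'
  inv_mem' := fun h => h.inv

/-! ### The chain `Q_b > Z₃ > Z₂ > 1` -/

section chain
variable (h2 : (2 : K) ≠ 0) (h3 : (3 : K) ≠ 0)
include h3

theorem mem_Z2_iff_cent (e : Qb K) : (e : GU K) ∈ Z2 K ↔ ∀ f : Qb K, e * f = f * e := by
  rw [← cent_Qb h3]
  constructor
  · intro h f
    exact Subtype.ext (h f f.2)
  · intro h z hz
    exact congrArg Subtype.val (h ⟨z, hz⟩)

theorem map_Z2 (γ : MulAut (Qb K)) {e : Qb K} (he : (e : GU K) ∈ Z2 K) : ((γ e : Qb K) : GU K) ∈ Z2 K := by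
  rw [mem_Z2_iff_cent h3] at he ⊢
  intro f
  have h := he (γ⁻¹ f)
  have h' := congrArg γ h
  rwa [map_mul, map_mul, MulAut.apply_inv_self] at h'

include h2

omit h3 in
/-- every element of `Z₃` is a commutator modulo `Z₂` -/
theorem dec_Z3 {e : Qb K} (he : (e : GU K) ∈ Z3 K) : ∃ z : Qb K, (z : GU K) ∈ Z2 K ∧
    e = (⟨x1 1, x1_mem 1⟩ : Qb K) * (⟨x3 (-((e : GU K).d) / 2), Z4_le_Qb (x3_mem _)⟩ : Qb K) * (⟨x1 1, x1_mem 1⟩ : Qb K)⁻¹ *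
      (⟨x3 (-((e : GU K).d) / 2), Z4_le_Qb (x3_mem _)⟩ : Qb K)⁻¹ * z := by
  obtain ⟨ha, hb, hc⟩ := mem_Z3.1 he
  set g : Qb K := ⟨x1 1, x1_mem 1⟩ with hg
  set f : Qb K := ⟨x3 (-((e : GU K).d) / 2), Z4_le_Qb (x3_mem _)⟩ with hf
  refine ⟨(g * f * g⁻¹ * f⁻¹)⁻¹ * e, ?_, by rw [mul_inv_cancel_left]⟩
  rw [Subgroup.coe_mul, Subgroup.coe_inv]
  have e1 : ((g * f * g⁻¹ * f⁻¹ : Qb K) : GU K) = (g : GU K) * f * (g : GU K)⁻¹ * (f : GU K)⁻¹ := rfl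
  rw [e1]
  refine ⟨?_, ?_, ?_, ?_⟩
  · rw [GU.mul_a, GU.inv_a, cm_a, ha]; ring
  · rw [GU.mul_b, GU.inv_b, cm_b, hb]; ring
  · rw [GU.mul_c, GU.inv_c, GU.inv_b, cm_a, cm_b, cm_c, ha, hc]
    simp only [hg, hf, x1, x3]; ring
  · rw [GU.mul_d, GU.inv_d, GU.inv_c, GU.inv_b, cm_a, cm_b, cm_c, cm_d, ha]
    simp only [hg, hf, x1, x3]
    field_simp
    ring

/-- `Z₃` is characteristic in `Q_b` -/
theorem map_Z3 (γ : MulAut (Qb K)) {e : Qb K} (he : (e : GU K) ∈ Z3 K) : ((γ e : Qb K) : GU K) ∈ Z3 K := by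
  obtain ⟨z, hz, h1⟩ := dec_Z3 h2 he
  rw [h1]
  simp only [map_mul, map_inv]
  exact (Z3 K).mul_mem (com_Qb _ (γ _).2 _ (γ _).2) (Z2_le_Z3 (map_Z2 h3 γ hz))

theorem map_d {γ : MulAut (Qb K)} (hγ : TrivAC γ) {e : Qb K} (he : (e : GU K) ∈ Z3 K) :
    ((γ e : Qb K) : GU K).d = (e : GU K).d := by
  obtain ⟨z, hz, he'⟩ := dec_Z3 h2 he
  set g : Qb K := ⟨x1 1, x1_mem 1⟩ with hg
  set f : Qb K := ⟨x3 (-((e : GU K).d) / 2), Z4_le_Qb (x3_mem _)⟩ with hf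
  have hγz := map_Z2 h3 γ hz
  have h4 : γ e = γ g * γ f * (γ g)⁻¹ * (γ f)⁻¹ * γ z := by
    rw [he']
    simp only [map_mul, map_inv]
  rw [h4]
  have e2 : ((γ g * γ f * (γ g)⁻¹ * (γ f)⁻¹ * γ z : Qb K) : GU K) =
    ((γ g : Qb K) : GU K) * ((γ f : Qb K) : GU K) * ((γ g : Qb K) : GU K)⁻¹ * ((γ f : Qb K) : GU K)⁻¹ * ((γ z : Qb K) : GU K) := rfl
  obtain ⟨q1, q2, q3, q4⟩ := mem_Z2.1 hγz
  have hgb : ((γ g : Qb K) : GU K).b = 0 := (γ g).2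
  have hfb : ((γ f : Qb K) : GU K).b = 0 := (γ f).2
  rw [e2, GU.mul_d, cm_b, cm_c, cm_d, q1, q4, (hγ g).1, (hγ g).2, (hγ f).1, (hγ f).2, hgb, hfb]
  simp only [hg, hf, x1, x3]
  field_simp
  ring

/-- conjugates of `TrivAC` automorphisms -/
theorem TrivAC.conj {γ : MulAut (Qb K)} (hγ : TrivAC γ) (g : MulAut (Qb K)) : TrivAC (g * γ * g⁻¹) := by
  have key : ∀ e : Qb K, (((g * γ * g⁻¹) e * e⁻¹ : Qb K) : GU K) ∈ Z3 K := by
    intro e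
    set e' := g⁻¹ e with he'
    have h1 : e = g e' := by rw [he', MulAut.apply_inv_self]
    have h4 : (g * γ * g⁻¹) e * e⁻¹ = g (γ e' * e'⁻¹) := by
      rw [map_mul, map_inv, ← h1]; rfl
    rw [h4]
    apply map_Z3 h2 h3
    have hb : (e' : GU K).b = 0 := e'.2
    have hb' : ((γ e' : Qb K) : GU K).b = 0 := (γ e').2
    refine ⟨?_, ?_, ?_⟩
    · rw [Subgroup.coe_mul, Subgroup.coe_inv, GU.mul_a, GU.inv_a, (hγ e').1]; ring
    · rw [Subgroup.coe_mul, Subgroup.coe_inv, GU.mul_b, GU.inv_b, hb', hb]; ring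
    · rw [Subgroup.coe_mul, Subgroup.coe_inv, GU.mul_c, GU.inv_c, GU.inv_a, (hγ e').2, hb', hb]; ring
  intro e
  obtain ⟨k1, k2, k3⟩ := mem_Z3.1 (key e)
  have hb : (e : GU K).b = 0 := e.2
  have hb' : (((g * γ * g⁻¹) e : Qb K) : GU K).b = 0 := ((g * γ * g⁻¹) e).2
  rw [Subgroup.coe_mul, Subgroup.coe_inv, GU.mul_a, GU.inv_a] at k1
  rw [Subgroup.coe_mul, Subgroup.coe_inv, GU.mul_c, GU.inv_c, GU.inv_a, hb', hb] at k3
  exact ⟨by linear_combination k1, by linear_combination k3⟩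

/-- `Z₂ = [Q_b, Z₃]` is fixed -/
theorem fix_Z2 {γ : MulAut (Qb K)} (hγ : TrivAC γ) : Fx (Z2 K) γ := by
  intro e he
  obtain ⟨ha, hb, hc, hd⟩ := mem_Z2.1 he
  set g : Qb K := ⟨⟨-(e : GU K).e / 3, 0, -(e : GU K).f / 3, 0, 0, 0⟩, rfl⟩ with hg
  set f : Qb K := ⟨x4 1, Z3_le_Qb (x4_mem _)⟩ with hf
  have hef : ∀ g' f' : GU K, g'.a = (g : GU K).a → g'.c = (g : GU K).c → g'.b = 0 → f'.a = 0 → f'.b = 0 → f'.c = 0 →
      f'.d = 1 → g' * f' * g'⁻¹ * f'⁻¹ = (e : GU K) := by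
    intro g' f' k1 k2 k3 k4 k5 k6 k7
    ext
    · rw [cm_a, ha]
    · rw [cm_b, hb]
    · rw [cm_c, hc, k3, k4, k5]; ring
    · rw [cm_d, hd, k3, k4, k5, k6]; ring
    · rw [cm_e, k1, k2, k3, k4, k5, k6, k7]
      simp only [hg]
      field_simp
      ring
    · rw [cm_f, k1, k2, k3, k4, k5, k6, k7]
      simp only [hg]
      field_simp
      ring
  have h1 : e = g * f * g⁻¹ * f⁻¹ := Subtype.ext (hef g f rfl rfl rfl rfl rfl rfl rfl).symm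
  have h4 : γ e = γ g * γ f * (γ g)⁻¹ * (γ f)⁻¹ := by
    rw [h1]
    simp only [map_mul, map_inv]
  rw [h4]
  apply Subtype.ext
  apply hef
  · exact (hγ g).1
  · exact (hγ g).2
  · exact (γ g).2
  · exact (hγ f).1
  · exact (γ f).2
  · exact (hγ f).2
  · exact map_d h2 h3 hγ (x4_mem 1)

theorem triv_Z3_Z2 {γ : MulAut (Qb K)} (hγ : TrivAC γ) : Triv (Z3 K) (Z2 K) γ := by
  intro e he
  obtain ⟨ha, hb, hc⟩ := mem_Z3.1 he
  have hd := map_d h2 h3 hγ he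
  have h1 := (hγ e).1
  have h2' := (hγ e).2
  have hb' : ((γ e : Qb K) : GU K).b = 0 := (γ e).2
  refine ⟨?_, ?_, ?_, ?_⟩
  · rw [GU.mul_a, GU.inv_a, h1]; ring
  · rw [GU.mul_b, GU.inv_b, hb', hb]; ring
  · rw [GU.mul_c, GU.inv_c, GU.inv_a, h2', hb', ha, hb]; ring
  · rw [GU.mul_d, GU.inv_d, GU.inv_a, hd, hb', ha, hb]; ring

omit h2 h3 in
theorem triv_Qb_Z3 {γ : MulAut (Qb K)} (hγ : TrivAC γ) : Triv (Qb K) (Z3 K) γ := by
  intro e _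
  have hb : (e : GU K).b = 0 := e.2
  have h1 := (hγ e).1
  have h2' := (hγ e).2
  have hb' : ((γ e : Qb K) : GU K).b = 0 := (γ e).2
  refine ⟨?_, ?_, ?_⟩
  · rw [GU.mul_a, GU.inv_a, h1]; ring
  · rw [GU.mul_b, GU.inv_b, hb', hb]; ring
  · rw [GU.mul_c, GU.inv_c, GU.inv_a, h2', hb', hb]; ring

theorem ker_pow [Finite K] {γ : MulAut (Qb K)} (hγ : TrivAC γ) : γ ^ (Nat.card K ^ 5) = 1 := by
  have f1 := fix_Z2 h2 h3 hγ
  have f2 : Fx (Z3 K) (γ ^ Nat.card (Z2 K)) := fx_step f1 (triv_Z3_Z2 h2 h3 hγ)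
  have g2 : TrivAC (γ ^ Nat.card (Z2 K)) := (NAC K).pow_mem (show γ ∈ NAC K from hγ) _
  have f3 : Fx (Qb K) ((γ ^ Nat.card (Z2 K)) ^ Nat.card (Z3 K)) := fx_step f2 (triv_Qb_Z3 g2)
  rw [← pow_mul, card_Z2, card_Z3, ← pow_add] at f3
  exact MulEquiv.ext fun e => f3 e e.2

end chain

theorem ne_of_le {p n : ℕ} (h : HypG K p n) (h5 : 5 ≤ p) {m : ℕ} (hm : 0 < m) (hm' : m < p) : (m : K) ≠ 0 := by
  have := h.char
  intro h0
  rw [CharP.cast_eq_zero_iff K p] at h0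
  exact absurd (Nat.le_of_dvd hm h0) (by omega)

/-- the elements of `Γ` acting trivially on `(a, c)` are inner -/
theorem ker5 {p n : ℕ} (h : HypG K p n) (h5 : 5 ≤ p) {Γ : Subgroup (MulAut (Qb K))}
    (syl : ∀ P : Subgroup (MulAut (Qb K)), P ≤ Γ → IsPGroup p P → ∃ g ∈ Γ, ∀ x ∈ P, g * x * g⁻¹ ∈ autInducedBy ⊤ (Qb K))
    {γ : MulAut (Qb K)} (hγ : γ ∈ Γ) (hac : TrivAC γ) : γ ∈ Inn (Qb K) := by
  have := h.fin
  have h2 : (2 : K) ≠ 0 := by exact_mod_cast ne_of_le h h5 (m := 2) (by omega) (by omega)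
  have h3 : (3 : K) ≠ 0 := by exact_mod_cast ne_of_le h h5 (m := 3) (by omega) (by omega)
  have hP : IsPGroup p ↥(Γ ⊓ NAC K) := by
    rintro ⟨x, hx, hx1⟩
    refine ⟨n * 5, Subtype.ext ?_⟩
    show x ^ p ^ (n * 5) = 1
    rw [pow_mul, ← h.card]
    exact ker_pow h2 h3 hx1
  obtain ⟨g, hg, hs⟩ := syl _ inf_le_left hP
  have h4 : g⁻¹ * γ * g ∈ Γ ⊓ NAC K := by
    refine ⟨Γ.mul_mem (Γ.mul_mem (Γ.inv_mem hg) hγ) hg, ?_⟩
    have h6 := TrivAC.conj h2 h3 hac g⁻¹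
    rwa [inv_inv] at h6
  have h7 := hs _ h4
  have h8 : g * (g⁻¹ * γ * g) * g⁻¹ = γ := by group
  rw [h8, Cfsg.Agent.H802.mem_autInducedBy_iff] at h7
  obtain ⟨x, -, hx⟩ := h7
  have hxb : x.b = 0 := by
    have h9 := (hac ⟨x1 1, x1_mem 1⟩).2
    rw [hx, cj_c] at h9
    simp only [x1] at h9
    linear_combination h9
  exact ⟨⟨x, hxb⟩, MulEquiv.ext fun e => Subtype.ext (hx e).symm⟩

end Cfsg.Agent.H353.GT
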